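import Cfsg.Agent.H603.CC.Defs

/-!
# REGU (S4793, hub helper603): the centralizer of a reflection times a regular unipotent element (helper775)

`exists_regu`.
-/

set_option autoImplicit false
set_option linter.unusedSectionVars false

namespace Cfsg.Agent.H775.CC

open Module Cfsg.Agent.ClassicalGeometry.HermWitt Cfsg.Agent.H603.CC

universe u v

variable {F : Type u} {V : Type v} [Field F] [AddCommGroup V] [Module F V] {q : ℕ} {σ : F →+* F}
  {B : V →ₛₗ[σ] V →ₗ[F] F} [Finite F] [Finite V]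

/-! ### scalars -/

theorem exists_ne (h : HS q σ B) : ∃ y : F, σ y ≠ y := by
  by_contra hcon
  push Not at hcon
  exact h.ne_id (RingHom.ext hcon)

/-- `c ≠ 0` with `σ c = -c` -/
theorem exists_anti (h : HS q σ B) : ∃ c : F, c ≠ 0 ∧ σ c = -c := by
  obtain ⟨y, hy⟩ := exists_ne h
  refine ⟨y - σ y, sub_ne_zero.2 fun e => hy e.symm, ?_⟩
  rw [map_sub, h.inv, neg_sub]

/-- `ε ≠ 1` of norm one -/
theorem exists_norm_one (h : HS q σ B) : ∃ ε : F, ε ≠ 1 ∧ σ ε * ε = 1 := by
  obtain ⟨y, hy⟩ := exists_ne h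
  have hy0 : y ≠ 0 := by
    rintro rfl
    exact hy (map_zero σ)
  have hs0 : σ y ≠ 0 := (map_ne_zero σ).2 hy0
  refine ⟨y * (σ y)⁻¹, fun e => hy ?_, ?_⟩
  · have := (mul_inv_eq_one₀ hs0).1 e
    exact this.symm
  · rw [map_mul, map_inv₀, h.inv]
    field_simp

/-! ### orthonormal bases -/

theorem exists_onb_aux (h : HS q σ B) {n : ℕ} (hn : finrank F V = n + 1) {f : V} (hf : B f f = 1) :
    ∀ k ≤ n, ∃ a : ℕ → V, a 0 = f ∧ ∀ i < k + 1, ∀ j < k + 1, B (a i) (a j) = if i = j then 1 else 0 := by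
  classical
  intro k
  induction k with
  | zero =>
    intro _
    refine ⟨fun _ => f, rfl, fun i hi j hj => ?_⟩
    have hi' : i = 0 := by omega
    have hj' : j = 0 := by omega
    rw [hi', hj', if_pos rfl, hf]
  | succ k ih =>
    intro hk
    obtain ⟨a, ha0, ha⟩ := ih (by omega)
    set X : Submodule F V := Submodule.span F ((Finset.image a (Finset.range (k + 1)) : Finset V) : Set V) with hX
    have haX : ∀ i < k + 1, a i ∈ X := fun i hi =>
      Submodule.subset_span (Finset.mem_coe.2 (Finset.mem_image_of_mem a (Finset.mem_range.2 hi)))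
    have hexp : ∀ x ∈ X, x = ∑ i ∈ Finset.range (k + 1), B (a i) x • a i := by
      intro x hx
      induction hx using Submodule.span_induction with
      | mem x hx =>
        obtain ⟨j, hj, rfl⟩ := Finset.mem_image.1 (Finset.mem_coe.1 hx)
        rw [Finset.mem_range] at hj
        rw [Finset.sum_eq_single j]
        · rw [ha j hj j hj, if_pos rfl, one_smul]
        · intro i hi hij
          rw [ha i (Finset.mem_range.1 hi) j hj, if_neg hij, zero_smul]
        · intro hj'
          exact absurd (Finset.mem_range.2 hj) hj'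
      | zero => simp
      | add x y _ _ hx hy =>
        conv_lhs => rw [hx, hy]
        rw [← Finset.sum_add_distrib]
        exact Finset.sum_congr rfl fun i _ => by rw [map_add, add_smul]
      | smul c x _ hx =>
        conv_lhs => rw [hx]
        rw [Finset.smul_sum]
        exact Finset.sum_congr rfl fun i _ => by rw [map_smul, smul_smul, smul_eq_mul]
    have hnd : ∀ x ∈ X, (∀ y ∈ X, B x y = 0) → x = 0 := by
      intro x hx hxy
      rw [hexp x hx]
      refine Finset.sum_eq_zero fun i hi => ?_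
      rw [h.zero_symm (hxy (a i) (haX i (Finset.mem_range.1 hi))), zero_smul]
    have hne : X ≠ ⊤ := by
      intro e
      have h1 : finrank F X ≤ k + 1 :=
        (finrank_span_finset_le_card _).trans (Finset.card_image_le.trans (by rw [Finset.card_range]))
      rw [e, finrank_top, hn] at h1
      omega
    obtain ⟨v, -, hvX, hvv⟩ := exists_unit_perp σ B h.ne_id h.inv h.symm h.sep X hnd hne
    refine ⟨Function.update a (k + 1) v, ?_, ?_⟩
    · rw [Function.update_of_ne (by omega), ha0]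
    · intro i hi j hj
      by_cases hi' : i = k + 1
      · by_cases hj' : j = k + 1
        · rw [hi', hj', Function.update_self, if_pos rfl, hvv]
        · rw [hi', Function.update_self, Function.update_of_ne hj', hvX _ (haX j (by omega)), if_neg (Ne.symm hj')]
      · by_cases hj' : j = k + 1
        · rw [hj', Function.update_self, Function.update_of_ne hi', if_neg hi']
          exact h.zero_symm (hvX _ (haX i (by omega)))
        · rw [Function.update_of_ne hi', Function.update_of_ne hj']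
          exact ha i (by omega) j (by omega)

/-- orthonormal bases -/
theorem exists_onb (h : HS q σ B) {n : ℕ} (hn : finrank F V = n + 1) {f : V} (hf : B f f = 1) :
    ∃ a : ℕ → V, a 0 = f ∧ (∀ i < n + 1, ∀ j < n + 1, B (a i) (a j) = if i = j then 1 else 0) ∧
      ∀ x, (∀ i < n + 1, B (a i) x = 0) → x = 0 := by
  classical
  obtain ⟨a, ha0, ha⟩ := exists_onb_aux h hn hf n le_rfl
  refine ⟨a, ha0, ha, fun x hx => ?_⟩
  have hli : LinearIndependent F (fun i : Fin (n + 1) => a i) := by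
    rw [Fintype.linearIndependent_iff]
    intro g hg j
    have h1 : B (a j) (∑ i, g i • a i) = 0 := by rw [hg, map_zero]
    rw [map_sum, Finset.sum_eq_single j] at h1
    · rwa [map_smul, ha j j.2 j j.2, if_pos rfl, smul_eq_mul, mul_one] at h1
    · intro i _ hij
      rw [map_smul, ha j j.2 i i.2, if_neg (fun e => hij (Fin.ext e).symm), smul_zero]
    · intro hj
      exact absurd (Finset.mem_univ j) hj
  have hsp := hli.span_eq_top_of_card_eq_finrank (by rw [Fintype.card_fin, hn])
  refine h.ext fun y => ?_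
  have hy : y ∈ Submodule.span F (Set.range fun i : Fin (n + 1) => a i) := by rw [hsp]; exact Submodule.mem_top
  induction hy using Submodule.span_induction with
  | mem y hy =>
    obtain ⟨i, rfl⟩ := hy
    exact h.zero_symm (hx i i.2)
  | zero => rw [map_zero]
  | add y z _ _ hy hz => rw [map_add, hy, hz, add_zero]
  | smul c y _ hy => rw [map_smul, hy, smul_zero]

/-! ### the family `w` -/

theorem form_E {a : ℕ → V} {m : ℕ} (ha : ∀ i < 2 * m + 1, ∀ j < 2 * m + 1, B (a i) (a j) = if i = j then 1 else 0)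
    (z z' : F) {i j : ℕ} (hi : i < m) (hj : j < m) :
    B (a (2 * i + 1) + z • a (2 * i + 2)) (a (2 * j + 1) + z' • a (2 * j + 2)) = if i = j then 1 + σ z * z' else 0 := by
  rw [map_add, map_smul, map_add, LinearMap.map_smulₛₗ, LinearMap.add_apply, LinearMap.add_apply,
    LinearMap.smul_apply, LinearMap.smul_apply,
    ha (2 * i + 1) (by omega) (2 * j + 1) (by omega), ha (2 * i + 2) (by omega) (2 * j + 1) (by omega),
    ha (2 * i + 1) (by omega) (2 * j + 2) (by omega), ha (2 * i + 2) (by omega) (2 * j + 2) (by omega),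
    if_neg (by omega : ¬ 2 * i + 2 = 2 * j + 1), if_neg (by omega : ¬ 2 * i + 1 = 2 * j + 2)]
  by_cases hij : i = j
  · rw [if_pos hij, if_pos (by omega), if_pos (by omega)]
    simp only [smul_eq_mul]
    ring
  · rw [if_neg hij, if_neg (by omega), if_neg (by omega)]
    simp

/-- a basis `f, w 0, ..., w (2 m - 1)` adapted to a regular nilpotent element -/
theorem exists_w (h : HS q σ B) {m : ℕ} (hn : finrank F V = 2 * m + 1) {f : V} (hf : B f f = 1) :
    ∃ (c : F) (w : ℕ → V), c ≠ 0 ∧ σ c = -c ∧ (∀ k, 2 * m ≤ k → w k = 0) ∧ (∀ k, B f (w k) = 0) ∧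
      (∀ j < 2 * m, ∀ k < 2 * m, B (w j) (w k) = if j + k = 2 * m - 1 then (-1) ^ j * c else 0) ∧
      ∀ x, B f x = 0 → (∀ k < 2 * m, B (w k) x = 0) → x = 0 := by
  obtain ⟨a, ha0, ha, hax⟩ := exists_onb h hn hf
  obtain ⟨c, hc0, hc⟩ := exists_anti h
  obtain ⟨ε, hε1, hε⟩ := exists_norm_one h
  obtain ⟨ζ, hζ0, hζ⟩ := norm_surj σ h.ne_id h.inv (-1 : F) (by rw [map_neg, map_one]) (neg_ne_zero.2 one_ne_zero)
  have hζ1 : σ ζ * ζ = -1 := by rw [mul_comm]; exact hζ
  have h1ε : 1 - ε ≠ 0 := sub_ne_zero.2 (Ne.symm hε1)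
  obtain ⟨ζ', hζ'⟩ : ∃ ζ' : F, ζ' = ζ * ε := ⟨_, rfl⟩
  have hz1 : 1 + σ ζ * ζ = 0 := by rw [hζ1]; ring
  have hz2 : 1 + σ ζ' * ζ' = 0 := by
    have : σ ζ' * ζ' = (σ ζ * ζ) * (σ ε * ε) := by rw [hζ', map_mul]; ring
    rw [this, hζ1, hε]; ring
  have hz3 : 1 + σ ζ * ζ' = 1 - ε := by
    have : σ ζ * ζ' = (σ ζ * ζ) * ε := by rw [hζ']; ring
    rw [this, hζ1]; ring
  have hz4 : 1 + σ ζ' * ζ = σ (1 - ε) := by
    rw [← hz3, map_add, map_one, map_mul, h.inv]; ring
  have hne : σ ζ ≠ σ ζ' := by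
    intro e
    have e1 : ζ = ζ' := σ.injective e
    rw [hζ'] at e1
    exact hε1 (mul_left_cancel₀ hζ0 (by rw [mul_one]; exact e1.symm))
  obtain ⟨w, hw⟩ : ∃ w : ℕ → V, w = fun k => if k < m then a (2 * k + 1) + ζ • a (2 * k + 2) else
    if k < 2 * m then ((-1) ^ (2 * m - 1 - k) * c * (1 - ε)⁻¹) •
      (a (2 * (2 * m - 1 - k) + 1) + ζ' • a (2 * (2 * m - 1 - k) + 2)) else 0 := ⟨_, rfl⟩
  have w1 : ∀ {k}, k < m → w k = a (2 * k + 1) + ζ • a (2 * k + 2) := by
    intro k hk
    rw [hw]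
    exact if_pos hk
  have w2 : ∀ {k}, m ≤ k → k < 2 * m → w k = ((-1) ^ (2 * m - 1 - k) * c * (1 - ε)⁻¹) •
      (a (2 * (2 * m - 1 - k) + 1) + ζ' • a (2 * (2 * m - 1 - k) + 2)) := by
    intro k hk hk2
    rw [hw]
    show (if k < m then _ else if k < 2 * m then _ else _) = _
    rw [if_neg (by omega), if_pos hk2]
  have w3 : ∀ {k}, 2 * m ≤ k → w k = 0 := by
    intro k hk
    rw [hw]
    show (if k < m then _ else if k < 2 * m then _ else _) = _
    rw [if_neg (by omega), if_neg (by omega)]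
  have hfa : ∀ {i}, i < 2 * m → B f (a (i + 1)) = 0 := by
    intro i hi
    rw [← ha0, ha 0 (by omega) (i + 1) (by omega), if_neg (by omega)]
  refine ⟨c, w, hc0, hc, fun k hk => w3 hk, fun k => ?_, fun j hj k hk => ?_, fun x hx hxw => ?_⟩
  · by_cases hk : k < m
    · rw [w1 hk, map_add, map_smul, hfa (by omega), hfa (by omega), smul_zero, add_zero]
    · by_cases hk2 : k < 2 * m
      · rw [w2 (by omega) hk2, map_smul, map_add, map_smul, hfa (by omega), hfa (by omega), smul_zero, add_zero, smul_zero]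
      · rw [w3 (by omega), map_zero]
  · by_cases hjm : j < m
    · by_cases hkm : k < m
      · rw [w1 hjm, w1 hkm, form_E ha _ _ hjm hkm, hz1, ite_self, if_neg (by omega)]
      · rw [w1 hjm, w2 (by omega) hk, map_smul, form_E ha _ _ hjm (by omega), hz3]
        by_cases he : j = 2 * m - 1 - k
        · rw [if_pos he, if_pos (by omega), ← he, smul_eq_mul]
          field_simp
        · rw [if_neg he, if_neg (by omega), smul_zero]
    · by_cases hkm : k < m
      · rw [w2 (by omega) hj, w1 hkm, LinearMap.map_smulₛₗ, LinearMap.smul_apply, form_E ha _ _ (by omega) hkm, hz4]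
        by_cases he : 2 * m - 1 - j = k
        · rw [if_pos he, if_pos (by omega), smul_eq_mul, map_mul, map_mul, map_pow, map_neg, map_one, map_inv₀, hc]
          have h5 : σ (1 - ε) ≠ 0 := (map_ne_zero σ).2 h1ε
          have h6 : (-1 : F) ^ j = -(-1) ^ (2 * m - 1 - j) := by
            have h7 : (-1 : F) ^ j * (-1) ^ (2 * m - 1 - j) = -1 := by
              rw [← pow_add]
              have : j + (2 * m - 1 - j) = 2 * (m - 1) + 1 := by omega
              rw [this, pow_succ, pow_mul]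
              norm_num
            have h8 : (-1 : F) ^ (2 * m - 1 - j) * (-1) ^ (2 * m - 1 - j) = 1 := by
              rw [← mul_pow]; norm_num
            calc (-1 : F) ^ j = (-1) ^ j * ((-1) ^ (2 * m - 1 - j) * (-1) ^ (2 * m - 1 - j)) := by rw [h8, mul_one]
              _ = _ := by rw [← mul_assoc, h7]; ring
          rw [h6]
          field_simp
        · rw [if_neg he, if_neg (by omega), smul_zero]
      · rw [w2 (by omega) hj, w2 (by omega) hk, map_smul, LinearMap.map_smulₛₗ, LinearMap.smul_apply,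
          form_E ha _ _ (by omega) (by omega), hz2, ite_self, smul_zero, smul_zero, if_neg (by omega)]
  · refine hax x fun i hi => ?_
    have key : ∀ r < m, B (a (2 * r + 1)) x = 0 ∧ B (a (2 * r + 2)) x = 0 := by
      intro r hr
      have h1 := hxw r (by omega)
      rw [w1 hr, map_add, LinearMap.map_smulₛₗ, LinearMap.add_apply, LinearMap.smul_apply, smul_eq_mul] at h1
      have h2 := hxw (2 * m - 1 - r) (by omega)
      rw [w2 (by omega) (by omega), (by omega : 2 * m - 1 - (2 * m - 1 - r) = r), LinearMap.map_smulₛₗ,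
        LinearMap.smul_apply, smul_eq_mul] at h2
      have h3 : σ ((-1) ^ r * c * (1 - ε)⁻¹) ≠ 0 := by
        refine (map_ne_zero σ).2 (mul_ne_zero (mul_ne_zero (pow_ne_zero _ (neg_ne_zero.2 one_ne_zero)) hc0)
          (inv_ne_zero h1ε))
      have h4 := (mul_eq_zero.1 h2).resolve_left h3
      rw [map_add, LinearMap.map_smulₛₗ, LinearMap.add_apply, LinearMap.smul_apply, smul_eq_mul] at h4
      have h5 : (σ ζ - σ ζ') * B (a (2 * r + 2)) x = 0 := by linear_combination h1 - h4
      have h6 := (mul_eq_zero.1 h5).resolve_left (sub_ne_zero.2 hne)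
      exact ⟨by rw [h6, mul_zero, add_zero] at h1; exact h1, h6⟩
    rcases Nat.even_or_odd i with ⟨r, hr⟩ | ⟨r, hr⟩
    · rcases Nat.eq_zero_or_pos r with h0 | h0
      · rw [(by omega : i = 0), ha0]; exact hx
      · have := (key (r - 1) (by omega)).2
        rwa [(by omega : 2 * (r - 1) + 2 = i)] at this
    · rw [hr]
      exact (key r (by omega)).1

/-! ### the nilpotent element -/

/-- the regular nilpotent element -/
noncomputable def Nn (B : V →ₛₗ[σ] V →ₗ[F] F) (m : ℕ) (c : F) (w : ℕ → V) : Module.End F V :=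
  ∑ k ∈ Finset.range (2 * m - 1), ((-1) ^ (k + 1) * c⁻¹) • (LinearMap.toSpanSingleton F V (w (k + 1))).comp
    (B (w (2 * m - 1 - k)))

theorem Nn_apply (m : ℕ) (c : F) (w : ℕ → V) (x : V) :
    Nn B m c w x = ∑ k ∈ Finset.range (2 * m - 1), ((-1) ^ (k + 1) * c⁻¹ * B (w (2 * m - 1 - k)) x) • w (k + 1) := by
  rw [Nn, LinearMap.sum_apply]
  refine Finset.sum_congr rfl fun k _ => ?_
  rw [LinearMap.smul_apply, LinearMap.comp_apply, LinearMap.toSpanSingleton_apply, smul_smul]

theorem neg_one_pow_sub {m k : ℕ} (hk : k < 2 * m) : (-1 : F) ^ (k + 1) * (-1) ^ (2 * m - 1 - k) = 1 := by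
  rw [← pow_add, (by omega : k + 1 + (2 * m - 1 - k) = 2 * m), pow_mul]
  norm_num

/-- the data of `exists_w` -/
structure WD (σ : F →+* F) (B : V →ₛₗ[σ] V →ₗ[F] F) (m : ℕ) (f : V) (c : F) (w : ℕ → V) : Prop where
  hs : ∀ x y, σ (B x y) = B y x
  inv : ∀ a, σ (σ a) = a
  hf : B f f = 1
  hm : 1 ≤ m
  hc0 : c ≠ 0
  hc : σ c = -c
  w0 : ∀ k, 2 * m ≤ k → w k = 0
  fw : ∀ k, B f (w k) = 0
  gr : ∀ j < 2 * m, ∀ k < 2 * m, B (w j) (w k) = if j + k = 2 * m - 1 then (-1) ^ j * c else 0
  ext : ∀ x, B f x = 0 → (∀ k < 2 * m, B (w k) x = 0) → x = 0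

section WD

variable {m : ℕ} {f : V} {c : F} {w : ℕ → V}

theorem WD.zs (W : WD σ B m f c w) {x y : V} (hxy : B x y = 0) : B y x = 0 := by
  rw [← W.hs, hxy, map_zero]

theorem WD.Nw (W : WD σ B m f c w) (j : ℕ) : Nn B m c w (w j) = w (j + 1) := by
  rw [Nn_apply]
  have hc0 := W.hc0
  by_cases hj : j < 2 * m - 1
  · rw [Finset.sum_eq_single j]
    · rw [W.gr _ (by omega) _ (by omega), if_pos (by omega)]
      have h1 := neg_one_pow_sub (F := F) (m := m) (k := j) (by omega)
      have h2 : (-1 : F) ^ (j + 1) * c⁻¹ * ((-1) ^ (2 * m - 1 - j) * c) = 1 := by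
        calc (-1 : F) ^ (j + 1) * c⁻¹ * ((-1) ^ (2 * m - 1 - j) * c)
            = ((-1 : F) ^ (j + 1) * (-1) ^ (2 * m - 1 - j)) * (c⁻¹ * c) := by ring
          _ = 1 := by rw [h1, inv_mul_cancel₀ hc0, one_mul]
      rw [h2, one_smul]
    · intro k hk hkj
      rw [Finset.mem_range] at hk
      rw [W.gr _ (by omega) _ (by omega), if_neg (by omega), mul_zero, zero_smul]
    · intro h
      exact absurd (Finset.mem_range.2 hj) h
  · rw [W.w0 (j + 1) (by omega)]
    refine Finset.sum_eq_zero fun k hk => ?_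
    rw [Finset.mem_range] at hk
    by_cases hj2 : j < 2 * m
    · rw [W.gr _ (by omega) _ hj2, if_neg (by omega), mul_zero, zero_smul]
    · rw [W.w0 j (by omega), map_zero, mul_zero, zero_smul]

theorem WD.Nf (W : WD σ B m f c w) : Nn B m c w f = 0 := by
  rw [Nn_apply]
  exact Finset.sum_eq_zero fun k _ => by rw [W.zs (W.fw _), mul_zero, zero_smul]

theorem WD.skew (W : WD σ B m f c w) (x y : V) : B (Nn B m c w x) y = - B x (Nn B m c w y) := by
  rw [Nn_apply, Nn_apply, map_sum, map_sum, LinearMap.sum_apply, ← Finset.sum_neg_distrib]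
  rw [← Finset.sum_range_reflect (fun k => - B x (((-1) ^ (k + 1) * c⁻¹ * B (w (2 * m - 1 - k)) y) • w (k + 1)))]
  refine Finset.sum_congr rfl fun k hk => ?_
  rw [Finset.mem_range] at hk
  rw [LinearMap.map_smulₛₗ, LinearMap.smul_apply, map_smul, smul_eq_mul, smul_eq_mul, map_mul, map_mul, map_pow,
    map_neg, map_one, map_inv₀, W.hc, W.hs, (by omega : 2 * m - 1 - (2 * m - 1 - 1 - k) = k + 1),
    (by omega : 2 * m - 1 - 1 - k + 1 = 2 * m - 1 - k)]
  have h1 := neg_one_pow_sub (F := F) (m := m) (k := k) (by omega)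
  have h2 : (-1 : F) ^ (2 * m - 1 - k) * (-1) ^ (2 * m - 1 - k) = 1 := by rw [← mul_pow]; norm_num
  have h3 : (-1 : F) ^ (k + 1) = (-1) ^ (2 * m - 1 - k) := by
    calc (-1 : F) ^ (k + 1) = (-1) ^ (k + 1) * ((-1) ^ (2 * m - 1 - k) * (-1) ^ (2 * m - 1 - k)) := by
          rw [h2, mul_one]
      _ = _ := by rw [← mul_assoc, h1, one_mul]
  rw [h3, inv_neg]
  ring

theorem WD.fN (W : WD σ B m f c w) (y : V) : B f (Nn B m c w y) = 0 := by
  have h := W.skew f y
  rw [W.Nf, map_zero, LinearMap.zero_apply] at h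
  exact neg_eq_zero.1 h.symm

theorem WD.expand (W : WD σ B m f c w) (v : V) :
    v = B f v • f + ∑ k ∈ Finset.range (2 * m), ((-1) ^ (k + 1) * c⁻¹ * B (w (2 * m - 1 - k)) v) • w k := by
  have hc0 := W.hc0
  rw [← sub_eq_zero]
  refine W.ext _ ?_ fun j hj => ?_
  · rw [map_sub, map_add, map_smul, W.hf, smul_eq_mul, mul_one, map_sum, Finset.sum_eq_zero, add_zero, sub_self]
    intro k _
    rw [map_smul, W.fw, smul_zero]
  · rw [map_sub, map_add, map_smul, W.zs (W.fw _), smul_zero, zero_add, map_sum,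
      Finset.sum_eq_single (2 * m - 1 - j)]
    · rw [map_smul, W.gr j hj _ (by omega), if_pos (by omega), (by omega : 2 * m - 1 - (2 * m - 1 - j) = j),
        smul_eq_mul]
      have h1 := neg_one_pow_sub (F := F) (m := m) (k := 2 * m - 1 - j) (by omega)
      rw [(by omega : 2 * m - 1 - (2 * m - 1 - j) = j)] at h1
      have h2 : (-1 : F) ^ (2 * m - 1 - j + 1) * c⁻¹ * B (w j) v * ((-1) ^ j * c) = B (w j) v := by
        calc (-1 : F) ^ (2 * m - 1 - j + 1) * c⁻¹ * B (w j) v * ((-1) ^ j * c)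
            = ((-1 : F) ^ (2 * m - 1 - j + 1) * (-1) ^ j) * (c⁻¹ * c) * B (w j) v := by ring
          _ = B (w j) v := by rw [h1, inv_mul_cancel₀ hc0, one_mul, one_mul]
      rw [h2, sub_self]
    · intro k hk hkj
      rw [Finset.mem_range] at hk
      rw [map_smul, W.gr j hj k hk, if_neg (by omega), smul_zero]
    · intro h
      exact absurd (Finset.mem_range.2 (by omega)) h

theorem WD.decomp (W : WD σ B m f c w) {v : V} (hv : B f v = 0) :
    ∃ (b : F) (y : V), B f y = 0 ∧ v = b • w 0 + Nn B m c w y := by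
  have h := W.expand v
  have hm := W.hm
  rw [hv, zero_smul, zero_add, (by omega : 2 * m = 2 * m - 1 + 1), Finset.sum_range_succ'] at h
  refine ⟨(-1) ^ (0 + 1) * c⁻¹ * B (w (2 * m - 1 + 1 - 1 - 0)) v, ∑ k ∈ Finset.range (2 * m - 1),
    ((-1) ^ (k + 1 + 1) * c⁻¹ * B (w (2 * m - 1 + 1 - 1 - (k + 1))) v) • w k, ?_, ?_⟩
  rotate_left
  · rw [map_sum]
    rw [add_comm] at h
    refine h.trans ?_
    congr 1
    refine Finset.sum_congr rfl fun k _ => ?_
    rw [map_smul, W.Nw]
  · rw [map_sum]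
    exact Finset.sum_eq_zero fun k _ => by rw [map_smul, W.fw, smul_zero]

theorem WD.Npow_w (W : WD σ B m f c w) (i k : ℕ) : (Nn B m c w ^ i) (w k) = w (k + i) := by
  induction i generalizing k with
  | zero => rw [pow_zero, Module.End.one_apply, Nat.add_zero]
  | succ i ih => rw [pow_succ, Module.End.mul_apply, W.Nw, ih]; congr 1; omega

theorem WD.Npow (W : WD σ B m f c w) : Nn B m c w ^ (2 * m) = 0 := by
  have hm := W.hm
  ext v
  rw [W.expand v, map_add, map_smul, map_sum, LinearMap.zero_apply]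
  have h1 : (Nn B m c w ^ (2 * m)) f = 0 := by
    rw [(by omega : 2 * m = 2 * m - 1 + 1), pow_succ, Module.End.mul_apply, W.Nf, map_zero]
  rw [h1, smul_zero, zero_add]
  refine Finset.sum_eq_zero fun k _ => ?_
  rw [map_smul, W.Npow_w, W.w0 (k + 2 * m) (by omega), smul_zero]

end WD

/-! ### isometries and unipotent elements -/

theorem exists_of_pres (h : HS q σ B) (L : Module.End F V) (hL : ∀ x y, B (L x) (L y) = B x y) :
    ∃ g : UU B, ∀ x, ac B g x = L x := by
  have hinj : Function.Injective L := by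
    rw [injective_iff_map_eq_zero]
    intro x hx
    refine h.ext fun y => ?_
    rw [← hL, hx, map_zero, LinearMap.zero_apply]
  exact ⟨mkU (LinearEquiv.ofInjectiveEndo L hinj) fun x y => by
    rw [LinearEquiv.coe_ofInjectiveEndo]; exact hL x y, fun x => by
    rw [ac_mkU, LinearEquiv.coe_ofInjectiveEndo]⟩

/-- an element which differs from the identity by a nilpotent one has determinant one -/
theorem dt_eq_one (s : UU B) (n : Module.End F V) (k : ℕ) (hn : n ^ k = 0) (hs : ∀ v, ac B s v = v + n v) :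
    dt s = 1 := by
  classical
  obtain ⟨p, hp⟩ := CharP.exists F
  have hpp : p.Prime := (CharP.char_is_prime_or_zero F p).resolve_right (by
    rintro rfl
    have : CharZero F := CharP.charP_to_charZero F
    exact not_finite F)
  have : Fact p.Prime := ⟨hpp⟩
  rcases subsingleton_or_nontrivial V with hV | hV
  · have : s = 1 := ac_ext fun x => Subsingleton.elim _ _
    rw [this, map_one]
  have : CharP (Module.End F V) p := charP_of_injective_algebraMap (algebraMap F (Module.End F V)).injective p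
  have h1 : ((s : V ≃ₗ[F] V) : Module.End F V) = 1 + n := by
    ext v
    exact hs v
  have h2 : (1 + n) ^ p ^ k = 1 := by
    rw [add_pow_char_pow_of_commute _ _ (Commute.one_left n), one_pow]
    have : n ^ p ^ k = 0 := by
      refine pow_eq_zero_of_le ?_ hn
      exact (Nat.lt_pow_self hpp.one_lt).le
    rw [this, add_zero]
  have h3 : (LinearMap.det ((s : V ≃ₗ[F] V) : Module.End F V)) ^ p ^ k = 1 := by
    rw [← map_pow, h1, h2, map_one]
  have h4 : LinearMap.det ((s : V ≃ₗ[F] V) : Module.End F V) = 1 := by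
    have h5 : (LinearMap.det ((s : V ≃ₗ[F] V) : Module.End F V) - 1) ^ p ^ k = 0 := by
      rw [sub_pow_char_pow, h3, one_pow, sub_self]
    exact sub_eq_zero.1 (pow_eq_zero_iff (pow_ne_zero _ hpp.ne_zero) |>.1 h5)
  rw [dt_def]
  ext
  rw [LinearEquiv.coe_det, h4]
  rfl

/-! ### the element and its centralizer -/

/-- `v ↦ B f v • f` -/
noncomputable def Pf (B : V →ₛₗ[σ] V →ₗ[F] F) (f : V) : Module.End F V := (LinearMap.toSpanSingleton F V f).comp (B f)

theorem Pf_apply (f v : V) : Pf B f v = B f v • f := by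
  rw [Pf, LinearMap.comp_apply, LinearMap.toSpanSingleton_apply]

section WD

variable {m : ℕ} {f : V} {c : F} {w : ℕ → V}

/-- the centralizer of the element, in terms of `N` -/
theorem WD.exists_x (h : HS q σ B) (W : WD σ B m f c w) : ∃ x : UU B, ∀ g : UU B, g * x = x * g →
    (∃ a : F, ac B g f = a • f) ∧ ∀ v, ac B g (Nn B m c w v) = Nn B m c w (ac B g v) := by
  obtain ⟨θ, hθ⟩ := trace_surj σ h.ne_id h.inv (1 : F) (map_one σ)
  obtain ⟨μ, hμ1, hμ⟩ := exists_norm_one h
  have hμ0 : μ - 1 ≠ 0 := sub_ne_zero.2 hμ1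
  obtain ⟨N, hN⟩ : ∃ N, N = Nn B m c w := ⟨_, rfl⟩
  obtain ⟨P, hP⟩ : ∃ P, P = Pf B f := ⟨_, rfl⟩
  have hPN : P * N = 0 := by
    ext v
    rw [Module.End.mul_apply, hP, hN, Pf_apply, W.fN, zero_smul, LinearMap.zero_apply]
  have hNP : N * P = 0 := by
    ext v
    rw [Module.End.mul_apply, hP, hN, Pf_apply, map_smul, W.Nf, smul_zero, LinearMap.zero_apply]
  have hnil : N ^ (2 * m) = 0 := by rw [hN]; exact W.Npow
  have hCu : IsUnit (1 - σ θ • N) := by
    refine IsNilpotent.isUnit_one_sub ⟨2 * m, ?_⟩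
    rw [smul_pow, hnil, smul_zero]
  obtain ⟨C, hC⟩ := hCu
  obtain ⟨A, hA⟩ : ∃ A : Module.End F V, A = 1 + θ • N + (μ - 1) • P := ⟨_, rfl⟩
  have hPC : P * (C : Module.End F V) = P := by
    rw [hC, mul_sub, mul_one, mul_smul_comm, hPN, smul_zero, sub_zero]
  -- the form
  have hform : ∀ x y, B (A x) (A y) = B ((C : Module.End F V) x) ((C : Module.End F V) y) := by
    intro x y
    have e1 : ∀ v, A v = v + θ • N v + (μ - 1) • (B f v • f) := by
      intro v
      rw [hA, LinearMap.add_apply, LinearMap.add_apply, LinearMap.smul_apply, LinearMap.smul_apply, hP, Pf_apply]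
      rfl
    have e2 : ∀ v, (C : Module.End F V) v = v - σ θ • N v := by
      intro v
      rw [hC, LinearMap.sub_apply, LinearMap.smul_apply]
      rfl
    have e3 : B (N x) y = - B x (N y) := by rw [hN]; exact W.skew x y
    have e4 : B f (N y) = 0 := by rw [hN]; exact W.fN y
    have e5 : B (N x) f = 0 := by rw [hN]; exact W.zs (W.fN x)
    have e6 : σ (B f x) = B x f := W.hs f x
    rw [e1, e1, e2, e2]
    simp only [map_add, map_sub, map_smul, LinearMap.map_smulₛₗ, LinearMap.add_apply, LinearMap.sub_apply,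
      LinearMap.smul_apply, smul_eq_mul, e3, e4, e5, e6, W.hf, map_one, W.inv]
    linear_combination (B x f * B f y) * hμ
  obtain ⟨x, hx⟩ := exists_of_pres h (A * ((C⁻¹ : (Module.End F V)ˣ) : Module.End F V)) fun x y => by
    rw [Module.End.mul_apply, Module.End.mul_apply, hform, ← Module.End.mul_apply, ← Module.End.mul_apply,
      Units.mul_inv, Module.End.one_apply, Module.End.one_apply]
  have hCf : (C : Module.End F V) f = f := by
    rw [hC, LinearMap.sub_apply, LinearMap.smul_apply, hN, W.Nf, smul_zero, sub_zero]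
    rfl
  have hCif : ((C⁻¹ : (Module.End F V)ˣ) : Module.End F V) f = f := by
    have : ((C⁻¹ : (Module.End F V)ˣ) : Module.End F V) ((C : Module.End F V) f) = f := by
      rw [← Module.End.mul_apply, Units.inv_mul, Module.End.one_apply]
    rwa [hCf] at this
  have hAf : A f = μ • f := by
    rw [hA, LinearMap.add_apply, LinearMap.add_apply, LinearMap.smul_apply, LinearMap.smul_apply, hP, Pf_apply, hN,
      W.Nf, W.hf, smul_zero, one_smul, Module.End.one_apply, sub_smul, one_smul]
    abel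
  have hxf : ac B x f = μ • f := by
    rw [hx, Module.End.mul_apply, hCif, hAf]
  -- eigenvectors
  have heig : ∀ v, ac B x v = μ • v → v = B f v • f := by
    intro v hv
    obtain ⟨y, hy⟩ : ∃ y, y = ((C⁻¹ : (Module.End F V)ˣ) : Module.End F V) v := ⟨_, rfl⟩
    have hvy : v = (C : Module.End F V) y := by
      rw [hy, ← Module.End.mul_apply, Units.mul_inv, Module.End.one_apply]
    rw [hx, Module.End.mul_apply, ← hy, hvy] at hv
    obtain ⟨y', hy'⟩ : ∃ y', y' = y - B f y • f := ⟨_, rfl⟩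
    have h1 : N y' = N y := by rw [hy', map_sub, map_smul, hN, W.Nf, smul_zero, sub_zero]
    have h2 : y' = ((μ - 1)⁻¹ * (θ + μ * σ θ)) • N y' := by
      rw [mul_smul, eq_inv_smul_iff₀ hμ0, h1, hy']
      rw [hA, hC] at hv
      simp only [LinearMap.add_apply, LinearMap.sub_apply, LinearMap.smul_apply, Module.End.one_apply, hP,
        Pf_apply] at hv
      have h3 : (μ • (y - σ θ • N y)) - (y + θ • N y + (μ - 1) • B f y • f) = 0 := by rw [hv, sub_self]
      rw [← sub_eq_zero, ← h3]
      module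
    have h3 : ∀ i, ∃ κ : F, y' = κ • (N ^ i) y' := by
      intro i
      induction i with
      | zero => exact ⟨1, by rw [pow_zero, Module.End.one_apply, one_smul]⟩
      | succ i ih =>
        obtain ⟨κ, hκ⟩ := ih
        refine ⟨κ * ((μ - 1)⁻¹ * (θ + μ * σ θ)), ?_⟩
        have h4 : (N ^ i) y' = ((μ - 1)⁻¹ * (θ + μ * σ θ)) • (N ^ (i + 1)) y' := by
          conv_lhs => rw [h2]
          rw [map_smul, pow_succ, Module.End.mul_apply]
        rw [mul_smul, ← h4, ← hκ]
    obtain ⟨κ, hκ⟩ := h3 (2 * m)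
    rw [hnil, LinearMap.zero_apply, smul_zero] at hκ
    rw [hκ] at hy'
    have h5 : y = B f y • f := (sub_eq_zero.1 hy'.symm)
    have h6 : v = B f y • f := by
      rw [hvy]
      conv_lhs => rw [h5]
      rw [map_smul, hCf]
    rw [h6, map_smul, W.hf, smul_eq_mul, mul_one]
  refine ⟨x, fun g hg => ?_⟩
  have hgx : ∀ v, ac B g (ac B x v) = ac B x (ac B g v) := by
    intro v
    rw [← ac_mul, hg, ac_mul]
  obtain ⟨a, ha⟩ : ∃ a : F, ac B g f = a • f :=
    ⟨_, heig _ (by rw [← hgx, hxf, ac_smul])⟩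
  refine ⟨⟨a, ha⟩, ?_⟩
  have haa : σ a * a = 1 := by
    have h1 := form_ac g f f
    rw [ha, map_smul, LinearMap.map_smulₛₗ, LinearMap.smul_apply, W.hf, smul_eq_mul, smul_eq_mul, mul_one] at h1
    rw [mul_comm]; exact h1
  obtain ⟨G, hG⟩ : ∃ G : Module.End F V, ∀ v, G v = ac B g v := ⟨((g : V ≃ₗ[F] V) : Module.End F V), fun v => rfl⟩
  have hGP : Commute G P := by
    ext v
    rw [Module.End.mul_apply, Module.End.mul_apply, hP, Pf_apply, Pf_apply, map_smul, hG, hG, ha]
    have h1 : B f (ac B g v) = a * B f v := by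
      have h2 : B (ac B g f) (ac B g v) = B f v := form_ac g f v
      rw [ha, LinearMap.map_smulₛₗ, LinearMap.smul_apply, smul_eq_mul] at h2
      rw [← h2, ← mul_assoc, mul_comm a, haa, one_mul]
    rw [h1, smul_smul, mul_comm]
  have hGx : Commute G (A * ((C⁻¹ : (Module.End F V)ˣ) : Module.End F V)) := by
    ext v
    show G ((A * ((C⁻¹ : (Module.End F V)ˣ) : Module.End F V)) v) =
      (A * ((C⁻¹ : (Module.End F V)ˣ) : Module.End F V)) (G v)
    rw [← hx, ← hx, hG, hG, hgx]
  obtain ⟨D, hD⟩ : ∃ D : Module.End F V, D = A * ((C⁻¹ : (Module.End F V)ˣ) : Module.End F V) - 1 - (μ - 1) • P :=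
    ⟨_, rfl⟩
  have hGD : Commute G D := by
    rw [hD]
    exact (hGx.sub_right (Commute.one_right _)).sub_right (hGP.smul_right _)
  have hDC : D * (C : Module.End F V) = N := by
    rw [hD, sub_mul, sub_mul, mul_assoc, Units.inv_mul, mul_one, one_mul, smul_mul_assoc, hPC, hA, hC]
    have : N = (θ + σ θ) • N := by rw [hθ, one_smul]
    conv_rhs => rw [this]
    rw [add_smul]
    abel
  have hCi : ((C⁻¹ : (Module.End F V)ˣ) : Module.End F V) = 1 + σ θ • D := by
    have h1 : (1 + σ θ • D) * (C : Module.End F V) = 1 := by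
      rw [add_mul, one_mul, smul_mul_assoc, hDC, hC]; abel
    calc ((C⁻¹ : (Module.End F V)ˣ) : Module.End F V)
        = ((1 + σ θ • D) * (C : Module.End F V)) * ((C⁻¹ : (Module.End F V)ˣ) : Module.End F V) := by
          rw [h1, one_mul]
      _ = 1 + σ θ • D := by rw [mul_assoc, Units.mul_inv, mul_one]
  have hGC : Commute G (C : Module.End F V) := by
    rw [← Commute.units_inv_right_iff, hCi]
    exact (Commute.one_right _).add_right (hGD.smul_right _)
  have hGN : Commute G N := by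
    rw [← hDC]
    exact hGD.mul_right hGC
  intro v
  rw [← hN, ← hG, ← hG, ← Module.End.mul_apply, hGN.eq, Module.End.mul_apply]

/-- the elements commuting with `N` -/
theorem WD.split (h : HS q σ B) (W : WD σ B m f c w) (g : UU B) {a : F} (ha : ac B g f = a • f)
    (hgN : ∀ v, ac B g (Nn B m c w v) = Nn B m c w (ac B g v)) :
    ∃ z ∈ Zs B, ∃ ρ ∈ Ref B f, ∃ s : UU B, ac B s f = f ∧ dt s = 1 ∧ g = z * ρ * s := by
  have hm := W.hm
  obtain ⟨N, hN⟩ : ∃ N, N = Nn B m c w := ⟨_, rfl⟩
  rw [← hN] at hgN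
  have haa : σ a * a = 1 := by
    have h1 := form_ac g f f
    rw [ha, map_smul, LinearMap.map_smulₛₗ, LinearMap.smul_apply, W.hf, smul_eq_mul, smul_eq_mul, mul_one] at h1
    rw [mul_comm]; exact h1
  have hgperp : ∀ v, B f v = 0 → B f (ac B g v) = 0 := by
    intro v hv
    have h2 : B (ac B g f) (ac B g v) = B f v := form_ac g f v
    rw [ha, LinearMap.map_smulₛₗ, LinearMap.smul_apply, smul_eq_mul, hv] at h2
    exact (mul_eq_zero.1 h2).resolve_left (left_ne_zero_of_mul_eq_one haa)
  have hgNi : ∀ i v, ac B g ((N ^ i) v) = (N ^ i) (ac B g v) := by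
    intro i
    induction i with
    | zero => intro v; rw [pow_zero, Module.End.one_apply, Module.End.one_apply]
    | succ i ih => intro v; rw [pow_succ, Module.End.mul_apply, Module.End.mul_apply, ih, hgN]
  obtain ⟨b, y₀, hy₀, hb⟩ := W.decomp (hgperp (w 0) (W.fw 0))
  rw [← hN] at hb
  have hnil : N ^ (2 * m) = 0 := by rw [hN]; exact W.Npow
  have htop : w (2 * m - 1) = (N ^ (2 * m - 1)) (w 0) := by rw [hN, W.Npow_w, Nat.zero_add]
  have hbt : ac B g (w (2 * m - 1)) = b • w (2 * m - 1) := by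
    rw [htop, hgNi, hb, map_add, map_smul, ← Module.End.mul_apply, ← pow_succ, (by omega : 2 * m - 1 + 1 = 2 * m),
      hnil, LinearMap.zero_apply, add_zero]
  have hbb : σ b * b = 1 := by
    have h1 := form_ac g (w (2 * m - 1)) (w 0)
    have h2 : B (w (2 * m - 1)) (N y₀) = 0 := by
      have h3 := W.skew (w (2 * m - 1)) y₀
      rw [W.Nw, W.w0 _ (by omega), map_zero, LinearMap.zero_apply, ← hN] at h3
      exact neg_eq_zero.1 h3.symm
    rw [hbt, hb, LinearMap.map_smulₛₗ, LinearMap.smul_apply, map_add, map_smul, h2, add_zero, smul_eq_mul,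
      smul_eq_mul, ← mul_assoc] at h1
    have h3 : B (w (2 * m - 1)) (w 0) ≠ 0 := by
      rw [W.gr _ (by omega) _ (by omega), if_pos (by omega)]
      exact mul_ne_zero (pow_ne_zero _ (neg_ne_zero.2 one_ne_zero)) W.hc0
    exact mul_right_cancel₀ h3 (by rw [h1, one_mul])
  have hb0 : b ≠ 0 := right_ne_zero_of_mul_eq_one hbb
  have ha0 : a ≠ 0 := right_ne_zero_of_mul_eq_one haa
  -- scalar
  obtain ⟨z, hz⟩ := exists_of_pres h (b • (1 : Module.End F V)) fun x y => by
    rw [LinearMap.smul_apply, LinearMap.smul_apply, Module.End.one_apply, Module.End.one_apply, map_smul,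
      LinearMap.map_smulₛₗ, LinearMap.smul_apply, smul_eq_mul, smul_eq_mul, ← mul_assoc, mul_comm b, hbb, one_mul]
  have hz' : ∀ v, ac B z v = b • v := fun v => by rw [hz, LinearMap.smul_apply, Module.End.one_apply]
  -- reflection
  obtain ⟨ρ, hρ⟩ := exists_of_pres h (1 + (a * b⁻¹ - 1) • Pf B f) fun x y => by
    have e6 : σ (B f x) = B x f := W.hs f x
    have hσb : σ b = b⁻¹ := eq_inv_of_mul_eq_one_left hbb
    have hσa : σ a = a⁻¹ := eq_inv_of_mul_eq_one_left haa
    simp only [LinearMap.add_apply, LinearMap.smul_apply, Module.End.one_apply, Pf_apply, map_add, map_sub, map_smul,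
      LinearMap.map_smulₛₗ, smul_eq_mul, W.hf, e6, map_mul, map_one, map_inv₀, hσb, hσa]
    field_simp
    ring
  have hρ' : ∀ v, ac B ρ v = v + (a * b⁻¹ - 1) • (B f v • f) := fun v => by
    rw [hρ, LinearMap.add_apply, LinearMap.smul_apply, Module.End.one_apply, Pf_apply]
  refine ⟨z, mem_Zs.2 ⟨b, hz'⟩, ρ, ?_, (z * ρ)⁻¹ * g, ?_, ?_, ?_⟩
  · intro v hv
    have : B f v = 0 := hv f (Submodule.mem_span_singleton_self f)
    rw [hρ', this, zero_smul, smul_zero, add_zero]
  · have h1 : ac B (z * ρ) f = ac B g f := by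
      rw [ac_mul, hρ', hz', W.hf, one_smul, ha, smul_add, smul_smul, ← add_smul]
      congr 1
      field_simp
      ring
    rw [ac_mul, ← h1, ac_inv_ac]
  · obtain ⟨s, hs⟩ : ∃ s, s = (z * ρ)⁻¹ * g := ⟨_, rfl⟩
    rw [← hs]
    have hsf : ac B s f = f := by
      have h1 : ac B (z * ρ) f = ac B g f := by
        rw [ac_mul, hρ', hz', W.hf, one_smul, ha, smul_add, smul_smul, ← add_smul]
        congr 1
        field_simp
        ring
      rw [hs, ac_mul, ← h1, ac_inv_ac]
    have hsv : ∀ v, B f v = 0 → ac B s v = b⁻¹ • ac B g v := by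
      intro v hv
      have h1 : ac B (z * ρ) (b⁻¹ • ac B g v) = ac B g v := by
        rw [ac_smul, ac_mul, hρ', hgperp v hv, zero_smul, smul_zero, add_zero, hz', smul_smul,
          inv_mul_cancel₀ hb0, one_smul]
      rw [hs, ac_mul, ← h1, ac_inv_ac, h1]
    obtain ⟨n, hn⟩ : ∃ n : Module.End F V, ∀ v, n v = ac B s v - v :=
      ⟨((s : V ≃ₗ[F] V) : Module.End F V) - 1, fun v => rfl⟩
    refine dt_eq_one s n (2 * m) ?_ fun v => by rw [hn]; abel
    have hstep : ∀ u, B f u = 0 → ∃ u', B f u' = 0 ∧ n u = N u' := by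
      intro u hu
      obtain ⟨β, y, hy, huy⟩ := W.decomp hu
      rw [← hN] at huy
      refine ⟨(b⁻¹ * β) • y₀ + b⁻¹ • ac B g y - y, ?_, ?_⟩
      · rw [map_sub, map_add, map_smul, map_smul, hy₀, hgperp y hy, hy, smul_zero, smul_zero, add_zero, sub_zero]
      · rw [hn, hsv u hu, map_sub, map_add, map_smul, map_smul, ← hgN, mul_smul]
        conv_lhs => rw [huy]
        rw [ac_add, ac_smul, hb, smul_add, smul_add, smul_add, smul_smul β b, smul_smul b⁻¹ (β * b),
          (by field_simp : b⁻¹ * (β * b) = β)]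
        abel
    have hpow : ∀ i u, B f u = 0 → ∃ u', B f u' = 0 ∧ (n ^ i) u = (N ^ i) u' := by
      intro i
      induction i with
      | zero => intro u hu; exact ⟨u, hu, by rw [pow_zero, pow_zero]⟩
      | succ i ih =>
        intro u hu
        obtain ⟨u₁, hu₁, he⟩ := ih u hu
        obtain ⟨u₂, hu₂, he₂⟩ := hstep u₁ hu₁
        refine ⟨u₂, hu₂, ?_⟩
        have h1 : B f ((N ^ i) u₁) = 0 := by
          rcases Nat.eq_zero_or_pos i with h0 | h0
          · rw [h0, pow_zero, Module.End.one_apply]; exact hu₁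
          · rw [(by omega : i = i - 1 + 1), pow_succ', Module.End.mul_apply, hN]
            exact W.fN _
        rw [pow_succ', Module.End.mul_apply, he, hn, hsv _ h1, hgNi, ← map_smul, ← map_sub, ← hsv u₁ hu₁, ← hn, he₂,
          pow_succ, Module.End.mul_apply]
    ext v
    rw [LinearMap.zero_apply]
    have hnf : (n ^ (2 * m)) f = 0 := by
      rw [(by omega : 2 * m = 2 * m - 1 + 1), pow_succ, Module.End.mul_apply, hn, hsf, sub_self, map_zero]
    obtain ⟨u', -, hu'⟩ := hpow (2 * m) (v - B f v • f) (by rw [map_sub, map_smul, W.hf, smul_eq_mul, mul_one, sub_self])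
    rw [hnil, LinearMap.zero_apply, map_sub, map_smul, hnf, smul_zero, sub_zero] at hu'
    exact hu'
  · rw [mul_inv_cancel_left]

end WD

/-! ### REGU -/

theorem exists_regu (h : HS q σ B) {m : ℕ} (hn : finrank F V = 2 * m + 1) (hm : 1 ≤ m) {f : V}
    (hf : B f f = 1) : ∃ x : UU B, ∀ g : UU B, g * x = x * g →
      ∃ z ∈ Zs B, ∃ ρ ∈ Ref B f, ∃ s : UU B, ac B s f = f ∧ dt s = 1 ∧ g = z * ρ * s := by
  obtain ⟨c, w, hc0, hc, hw0, hfw, hgr, hext⟩ := exists_w h hn hf
  have W : WD σ B m f c w := ⟨h.sy, h.inv, hf, hm, hc0, hc, hw0, hfw, hgr, hext⟩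
  obtain ⟨x, hx⟩ := W.exists_x h
  refine ⟨x, fun g hg => ?_⟩
  obtain ⟨⟨a, ha⟩, hgN⟩ := hx g hg
  exact W.split h g ha hgN

end Cfsg.Agent.H775.CC
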